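import Mathlib
import Cfsg.Agent.FG38.PolyMap

/-!
In a `p`-group of maximal class of order `p ^ (2k + 1)` with `k + 2 ≤ p`, the `(k-1)`-st term of the
lower central series is elementary abelian of order `p ^ (k + 1)`.
-/

set_option autoImplicit false

namespace Cfsg.Agent.FG72.MaxClass

open scoped commutatorElement
open Subgroup (lowerCentralSeries)

variable {G : Type*} [Group G]

/-- The elements acting trivially on the `i`-th lower central factor, shifted by one. -/
def twoStep (G : Type*) [Group G] (i : ℕ) : Subgroup G :=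
  (Subgroup.centralizer
    ((((⊤ : Subgroup G).lowerCentralSeries i).map
      (QuotientGroup.mk' ((⊤ : Subgroup G).lowerCentralSeries (i + 2))) : Subgroup _) : Set _)).comap
    (QuotientGroup.mk' ((⊤ : Subgroup G).lowerCentralSeries (i + 2)))

theorem mem_twoStep {i : ℕ} {g : G} : g ∈ twoStep G i ↔
    ∀ a ∈ (⊤ : Subgroup G).lowerCentralSeries i,
      ⁅g, a⁆ ∈ (⊤ : Subgroup G).lowerCentralSeries (i + 2) := by
  simp only [twoStep, Subgroup.mem_comap, Subgroup.mem_centralizer_iff, SetLike.mem_coe,
    Subgroup.mem_map, forall_exists_index, and_imp, forall_apply_eq_imp_iff₂]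
  refine forall₂_congr fun a _ => ?_
  rw [eq_comm, ← commutatorElement_eq_one_iff_mul_comm, ← map_commutatorElement,
    ← MonoidHom.mem_ker, QuotientGroup.ker_mk']

theorem twoStep_ne_top {i : ℕ}
    (h : ¬ (⊤ : Subgroup G).lowerCentralSeries (i + 1) ≤ (⊤ : Subgroup G).lowerCentralSeries (i + 2)) :
    twoStep G i ≠ ⊤ := fun htop => h (by
  rw [Subgroup.lowerCentralSeries_succ, Subgroup.commutator_le]
  intro a ha g _
  rw [← commutatorElement_inv]
  exact inv_mem (mem_twoStep.mp (htop ▸ Subgroup.mem_top g) a ha))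

/-- A `p`-group is not the union of at most `p` proper subgroups. -/
theorem exists_not_mem [Finite G] {p : ℕ} [hp : Fact p.Prime] (hG : IsPGroup p G) {ι : Type*}
    (s : Finset ι) (hs : s.card ≤ p) (C : ι → Subgroup G) (hC : ∀ i ∈ s, C i ≠ ⊤) :
    ∃ g, ∀ i ∈ s, g ∉ C i := by
  classical
  haveI := Fintype.ofFinite G
  by_contra hcon
  simp only [not_exists, not_forall, not_not] at hcon
  let U : ι → Finset G := fun i => Finset.univ.filter (fun g => g ∈ C i ∧ g ≠ 1)
  have hcov : Finset.univ.erase (1 : G) ⊆ s.biUnion U := by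
    intro g hg
    obtain ⟨i, hi, hgi⟩ := hcon g
    exact Finset.mem_biUnion.mpr ⟨i, hi,
      Finset.mem_filter.mpr ⟨Finset.mem_univ _, hgi, Finset.ne_of_mem_erase hg⟩⟩
  have hU : ∀ i ∈ s, p * (U i).card + p ≤ Nat.card G := by
    intro i hi
    have h1 : Nat.card (C i) = (U i).card + 1 := by
      rw [Nat.card_eq_fintype_card, Fintype.card_subtype]
      have : Finset.univ.filter (fun g => g ∈ C i) = insert 1 (U i) := by
        ext g
        simp only [U, Finset.mem_filter, Finset.mem_univ, true_and, Finset.mem_insert]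
        constructor
        · intro h; by_cases hg : g = 1
          · exact Or.inl hg
          · exact Or.inr ⟨h, hg⟩
        · rintro (rfl | h)
          · exact one_mem _
          · exact h.1
      rw [this, Finset.card_insert_of_notMem (by simp [U])]
    obtain ⟨b, hb⟩ := hG.index (C i)
    have hb0 : b ≠ 0 := by
      rintro rfl
      exact hC i hi (Subgroup.index_eq_one.mp (by simpa using hb))
    have h2 := (C i).card_mul_index
    rw [h1, hb] at h2
    calc p * (U i).card + p = ((U i).card + 1) * p := by ring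
      _ ≤ ((U i).card + 1) * p ^ b := Nat.mul_le_mul_left _ (Nat.le_self_pow hb0 p)
      _ = Nat.card G := h2
  have h1 := (Finset.card_le_card hcov).trans Finset.card_biUnion_le
  rw [Finset.card_erase_of_mem (Finset.mem_univ _), Finset.card_univ, ← Nat.card_eq_fintype_card] at h1
  have h2 : p * (Nat.card G - 1) + p * s.card ≤ s.card * Nat.card G := by
    calc p * (Nat.card G - 1) + p * s.card ≤ p * (∑ i ∈ s, (U i).card) + p * s.card :=
          Nat.add_le_add_right (Nat.mul_le_mul_left _ h1) _
      _ = ∑ i ∈ s, (p * (U i).card + p) := by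
          rw [Finset.sum_add_distrib, Finset.mul_sum, Finset.sum_const, smul_eq_mul, mul_comm p s.card]
      _ ≤ ∑ _i ∈ s, Nat.card G := Finset.sum_le_sum hU
      _ = s.card * Nat.card G := by rw [Finset.sum_const, smul_eq_mul]
  obtain ⟨M, hM⟩ : ∃ M, Nat.card G = M + 1 := ⟨Nat.card G - 1, by have := Nat.card_pos (α := G); omega⟩
  obtain ⟨i, hi, -⟩ := hcon 1
  have hc : 0 < s.card := Finset.card_pos.mpr ⟨i, hi⟩
  rw [hM, Nat.add_sub_cancel, Nat.mul_succ] at h2
  have h3 : s.card * M ≤ p * M := Nat.mul_le_mul_right _ hs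
  have h4 : 2 * s.card ≤ p * s.card := Nat.mul_le_mul_right _ hp.out.two_le
  omega

open Finset in
theorem geom_sum_one_add {R : Type*} [Semiring R] (D : R) : ∀ t : ℕ,
    ∑ i ∈ range t, (1 + D) ^ i = ∑ l ∈ range t, t.choose (l + 1) • D ^ l := by
  intro t
  induction t with
  | zero => simp
  | succ t ih =>
    rw [geom_sum_succ, ih]
    have hA : ∑ l ∈ range t, t.choose (l + 1) • D ^ l =
        ∑ l ∈ range (t + 1), t.choose (l + 1) • D ^ l := by
      rw [sum_range_succ, Nat.choose_eq_zero_of_lt (Nat.lt_succ_self t), zero_smul, add_zero]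
    have hB : D * ∑ l ∈ range t, t.choose (l + 1) • D ^ l + 1 =
        ∑ l ∈ range (t + 1), t.choose l • D ^ l := by
      rw [sum_range_succ', mul_sum]
      refine congrArg₂ (· + ·) (sum_congr rfl fun l _ => ?_) (by simp)
      rw [pow_succ', mul_smul_comm]
    calc (1 + D) * ∑ l ∈ range t, t.choose (l + 1) • D ^ l + 1
        = ∑ l ∈ range t, t.choose (l + 1) • D ^ l +
            (D * ∑ l ∈ range t, t.choose (l + 1) • D ^ l + 1) := by
          rw [add_mul, one_mul, add_assoc]
      _ = _ := by
          rw [hB, hA, ← sum_add_distrib]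
          refine sum_congr rfl fun l _ => ?_
          rw [Nat.choose_succ_succ', add_smul, add_comm]

section main

variable [Finite G] {p k : ℕ} [hp : Fact p.Prime] (hG : IsPGroup p G) (hk : 2 ≤ k) (hpk : k + 2 ≤ p)
  (hfirst : ∀ g : G, g ^ p ∈ (⊤ : Subgroup G).lowerCentralSeries 1)
  (hstep : ∀ i, 1 ≤ i → i + 1 ≤ 2 * k →
    ((⊤ : Subgroup G).lowerCentralSeries (i + 1)).relIndex ((⊤ : Subgroup G).lowerCentralSeries i) = p)
  (hbot : (⊤ : Subgroup G).lowerCentralSeries (2 * k) = ⊥)

theorem lcs_comm {i j : ℕ} {a b : G} (ha : a ∈ (⊤ : Subgroup G).lowerCentralSeries i)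
    (hb : b ∈ (⊤ : Subgroup G).lowerCentralSeries j) :
    ⁅a, b⁆ ∈ (⊤ : Subgroup G).lowerCentralSeries (i + j + 1) :=
  FG38.lcs_commutator_le i j (Subgroup.commutator_mem_commutator ha hb)

include hbot in
theorem eq_one_of_mem {i : ℕ} (hi : 2 * k ≤ i) {a : G}
    (ha : a ∈ (⊤ : Subgroup G).lowerCentralSeries i) : a = 1 :=
  Subgroup.mem_bot.mp (hbot ▸ Subgroup.lowerCentralSeries_antitone _ hi ha)

include hstep in
/-- A step is generated by any element outside the next one. -/
theorem le_sup_zpowers {i : ℕ} (h1 : 1 ≤ i) (h2 : i + 1 ≤ 2 * k) {a : G}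
    (ha : a ∈ (⊤ : Subgroup G).lowerCentralSeries i)
    (ha' : a ∉ (⊤ : Subgroup G).lowerCentralSeries (i + 1)) :
    (⊤ : Subgroup G).lowerCentralSeries i ≤
      Subgroup.zpowers a ⊔ (⊤ : Subgroup G).lowerCentralSeries (i + 1) := by
  set B := Subgroup.zpowers a ⊔ (⊤ : Subgroup G).lowerCentralSeries (i + 1) with hB
  have hBle : B ≤ (⊤ : Subgroup G).lowerCentralSeries i :=
    sup_le (Subgroup.zpowers_le.mpr ha) (Subgroup.lowerCentralSeries_antitone _ (Nat.le_succ i))
  have hmul := Subgroup.relIndex_mul_relIndex _ B ((⊤ : Subgroup G).lowerCentralSeries i)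
    (le_sup_right : (⊤ : Subgroup G).lowerCentralSeries (i + 1) ≤ B) hBle
  rw [hstep i h1 h2] at hmul
  rcases (Nat.dvd_prime hp.out).mp (Dvd.intro _ hmul) with h | h
  · exfalso
    exact ha' (Subgroup.relIndex_eq_one.mp h (Subgroup.mem_sup_left (Subgroup.mem_zpowers a)))
  · rw [h] at hmul
    exact Subgroup.relIndex_eq_one.mp (Nat.eq_of_mul_eq_mul_left hp.out.pos (hmul.trans (mul_one p).symm))

include hk hstep hbot in
theorem lcs_comm_self : ∀ a ∈ (⊤ : Subgroup G).lowerCentralSeries (k - 1),
    ∀ b ∈ (⊤ : Subgroup G).lowerCentralSeries (k - 1), a * b = b * a := by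
  intro a ha b hb
  by_cases ha' : a ∈ (⊤ : Subgroup G).lowerCentralSeries k
  · exact commutatorElement_eq_one_iff_mul_comm.mp
      (eq_one_of_mem hbot (by omega) (lcs_comm ha' hb))
  have hlt : k - 1 + 1 = k := by omega
  have hb' := le_sup_zpowers hstep (i := k - 1) (by omega) (by omega) ha (by rwa [hlt]) hb
  rw [hlt] at hb'
  have hle : Subgroup.zpowers a ⊔ (⊤ : Subgroup G).lowerCentralSeries k ≤
      Subgroup.centralizer {a} :=
    sup_le (Subgroup.zpowers_le.mpr (Subgroup.mem_centralizer_singleton_iff.mpr rfl))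
      fun c hc => Subgroup.mem_centralizer_singleton_iff.mpr
        (commutatorElement_eq_one_iff_mul_comm.mp (eq_one_of_mem hbot (by omega) (lcs_comm hc ha)))
  exact (Subgroup.mem_centralizer_singleton_iff.mp (hle hb')).symm

include hG hk hpk hfirst hstep hbot

/-- A good element. -/
theorem exists_good (j : ℕ) (hj : k - 1 ≤ j) (hj' : j + 1 ≤ 2 * k) :
    ∃ s : G, s ∉ twoStep G (j - 1) ∧ s ^ p ∈ (⊤ : Subgroup G).lowerCentralSeries (k + 1) := by
  have hne : ∀ i, i + 2 ≤ 2 * k → twoStep G i ≠ ⊤ := by
    intro i hi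
    refine twoStep_ne_top fun hle => ?_
    have h := hstep (i + 1) (by omega) (by omega)
    rw [Subgroup.relIndex_eq_one.mpr hle] at h
    exact hp.out.ne_one h.symm
  obtain ⟨s, hs⟩ := exists_not_mem hG (insert (j - 1) (Finset.Icc 1 k))
    ((Finset.card_insert_le _ _).trans (by rw [Nat.card_Icc]; omega)) (twoStep G)
    (fun i hi => hne i (by
      rcases Finset.mem_insert.mp hi with rfl | hi
      · omega
      · have := (Finset.mem_Icc.mp hi).2; omega))
  refine ⟨s, hs _ (Finset.mem_insert_self _ _), ?_⟩
  have h1 : s ^ p ∈ (⊤ : Subgroup G).lowerCentralSeries 1 := hfirst s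
  have h2 : ∀ i, 1 ≤ i → i ≤ k + 1 → s ^ p ∈ (⊤ : Subgroup G).lowerCentralSeries i := by
    intro i
    induction i with
    | zero => intro h; omega
    | succ i ih =>
      intro _ hi
      rcases Nat.eq_zero_or_pos i with rfl | hi0
      · exact h1
      have hsi := ih hi0 (by omega)
      by_contra hns
      refine hs i (Finset.mem_insert_of_mem (Finset.mem_Icc.mpr ⟨hi0, by omega⟩))
        (mem_twoStep.mpr fun a ha => ?_)
      have ha' := le_sup_zpowers hstep hi0 (by omega) hsi hns ha
      have hle : Subgroup.zpowers (s ^ p) ⊔ (⊤ : Subgroup G).lowerCentralSeries (i + 1) ≤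
          (Subgroup.centralizer {QuotientGroup.mk' ((⊤ : Subgroup G).lowerCentralSeries (i + 2)) s}).comap
            (QuotientGroup.mk' _) := by
        refine sup_le (Subgroup.zpowers_le.mpr ?_) fun c hc => ?_
        · rw [Subgroup.mem_comap, Subgroup.mem_centralizer_singleton_iff, map_pow]
          exact ((Commute.refl _).pow_left p).eq
        · rw [Subgroup.mem_comap, Subgroup.mem_centralizer_singleton_iff,
            ← commutatorElement_eq_one_iff_mul_comm, ← map_commutatorElement, ← MonoidHom.mem_ker,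
            QuotientGroup.ker_mk']
          exact lcs_comm (i := i + 1) (j := 0) hc (show s ∈ (⊤ : Subgroup G).lowerCentralSeries 0 from Subgroup.mem_top s)
      have h3 := hle ha'
      rw [Subgroup.mem_comap, Subgroup.mem_centralizer_singleton_iff, eq_comm,
        ← commutatorElement_eq_one_iff_mul_comm, ← map_commutatorElement, ← MonoidHom.mem_ker,
        QuotientGroup.ker_mk'] at h3
      exact h3
  exact h2 (k + 1) (by omega) le_rfl

theorem pow_eq_one : ∀ a ∈ (⊤ : Subgroup G).lowerCentralSeries (k - 1), a ^ p = 1 := by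
  set A := (⊤ : Subgroup G).lowerCentralSeries (k - 1) with hA
  have hcomm := lcs_comm_self hk hstep hbot
  suffices h : ∀ d j, j + d = 2 * k → k - 1 ≤ j →
      ∀ a ∈ (⊤ : Subgroup G).lowerCentralSeries j, a ^ p = 1 from
    h (2 * k - (k - 1)) (k - 1) (by omega) le_rfl
  intro d
  induction d with
  | zero => intro j hj _ a ha; rw [eq_one_of_mem hbot (by omega) ha, one_pow]
  | succ d ih =>
    intro j hjd hj a ha
    have hnext := ih (j + 1) (by omega) (by omega)
    obtain ⟨s, hs, hsp⟩ := exists_good hG hk hpk hfirst hstep hbot j hj (by omega)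
    rw [mem_twoStep] at hs
    simp only [not_forall] at hs
    obtain ⟨y, hy, hxy⟩ := hs
    rw [show j - 1 + 2 = j + 1 by omega] at hxy
    have hxj : ⁅s, y⁆ ∈ (⊤ : Subgroup G).lowerCentralSeries j := by
      have := lcs_comm (show s ∈ (⊤ : Subgroup G).lowerCentralSeries 0 from Subgroup.mem_top s) hy
      rwa [show 0 + (j - 1) + 1 = j by omega] at this
    have hxA : ⁅s, y⁆ ∈ A := Subgroup.lowerCentralSeries_antitone _ hj hxj
    have hx : ⁅s, y⁆ ^ p = 1 := by
      letI : CommGroup A :=
        { (inferInstance : Group A) with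
          mul_comm := fun u v => Subtype.ext (hcomm u u.2 v v.2) }
      haveI hAn : A.Normal := by rw [hA]; infer_instance
      let σ : AddMonoid.End (Additive A) :=
        ((MulAut.conjNormal s : A ≃* A).toMonoidHom).toAdditive
      let x : Additive A := Additive.ofMul ⟨⁅s, y⁆, hxA⟩
      have hσ : ∀ v : Additive A, ((Additive.toMul (σ v) : A) : G) = s * (Additive.toMul v : A) * s⁻¹ :=
        fun v => rfl
      have hsum : ∀ t, ((Additive.toMul ((∑ i ∈ Finset.range t, σ ^ i : AddMonoid.End _) x) : A) : G) =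
          ⁅s ^ t, y⁆ := by
        intro t
        induction t with
        | zero =>
          rw [Finset.range_zero, Finset.sum_empty, pow_zero, commutatorElement_one_left]
          rfl
        | succ t iht =>
          rw [geom_sum_succ]
          show ((Additive.toMul (σ ((∑ i ∈ Finset.range t, σ ^ i : AddMonoid.End _) x) + x) : A) : G) = _
          rw [toMul_add, Subgroup.coe_mul, hσ, iht, pow_succ', commutatorElement_mul_left_eq_conj_mul]
          rfl
      let D : AddMonoid.End (Additive A) := σ - 1
      have hD : ∀ l, ((Additive.toMul ((D ^ l) x) : A) : G) ∈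
          (⊤ : Subgroup G).lowerCentralSeries (j + l) := by
        intro l
        induction l with
        | zero => rw [pow_zero]; exact hxj
        | succ l ihl =>
          rw [pow_succ']
          show ((Additive.toMul (σ ((D ^ l) x) - (D ^ l) x) : A) : G) ∈ _
          rw [toMul_sub, Subgroup.coe_div, hσ, div_eq_mul_inv]
          have h := lcs_comm (show s ∈ (⊤ : Subgroup G).lowerCentralSeries 0 from Subgroup.mem_top s) ihl
          rw [commutatorElement_def] at h
          rwa [show 0 + (j + l) + 1 = j + (l + 1) by omega] at h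
      have hgeom : (∑ i ∈ Finset.range p, σ ^ i : AddMonoid.End (Additive A)) =
          ∑ l ∈ Finset.range p, p.choose (l + 1) • D ^ l := by
        rw [← geom_sum_one_add]
        simp [D]
      have hzero : ⁅s ^ p, y⁆ = 1 := eq_one_of_mem hbot (by omega) (lcs_comm hsp hy)
      have hfin : ((Additive.toMul (p • x) : A) : G) = 1 := by
        have h := hsum p
        have e : (∑ l ∈ Finset.range p, p.choose (l + 1) • D ^ l : AddMonoid.End (Additive A)) x =
            ∑ l ∈ Finset.range p, p.choose (l + 1) • (D ^ l) x :=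
          AddMonoidHom.finsetSum_apply _ _ x
        rw [hgeom, hzero, e] at h
        rw [Finset.sum_eq_single 0] at h
        · rw [zero_add, Nat.choose_one_right] at h
          exact h
        · intro l hl hl0
          apply Additive.toMul.injective
          refine Subtype.ext ?_
          show ((Additive.toMul (p.choose (l + 1) • (D ^ l) x) : A) : G) = 1
          rw [toMul_nsmul, Subgroup.coe_pow]
          rcases Nat.lt_or_ge (l + 1) p with hlp | hlp
          · obtain ⟨e, he⟩ := hp.out.dvd_choose_self (Nat.succ_ne_zero l) hlp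
            rw [he, pow_mul, hnext _ (Subgroup.lowerCentralSeries_antitone _ (by omega) (hD l)), one_pow]
          · have := Finset.mem_range.mp hl
            rw [eq_one_of_mem hbot (by omega) (hD l), one_pow]
        · intro h0
          exact absurd (Finset.mem_range.mpr hp.out.pos) h0
      rwa [toMul_nsmul, Subgroup.coe_pow] at hfin
    have hle := le_sup_zpowers hstep (i := j) (by omega) (by omega) hxj hxy ha
    haveI : ((⊤ : Subgroup G).lowerCentralSeries (j + 1)).Normal := inferInstance
    rw [← SetLike.mem_coe, Subgroup.mul_normal] at hle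
    obtain ⟨u, hu, v, hv, rfl⟩ := hle
    obtain ⟨z, rfl⟩ := Subgroup.mem_zpowers_iff.mp hu
    have hc : Commute (⁅s, y⁆ ^ z) v :=
      hcomm _ (A.zpow_mem hxA z) _ (Subgroup.lowerCentralSeries_antitone _ (by omega) hv)
    show (⁅s, y⁆ ^ z * v) ^ p = 1
    rw [hc.mul_pow, hnext v hv, mul_one, ← zpow_natCast, ← zpow_mul, mul_comm, zpow_mul,
      zpow_natCast, hx, one_zpow]

end main

end Cfsg.Agent.FG72.MaxClass
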