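import Cfsg.Agent.SectRank81.MaxClass
import Cfsg.Agent.FG72.MaxClass.Rank

/-!
Two-step centralisers of a `p`-group of maximal class repeat with period `p - 1`; in particular there
is always an element with centraliser of order `p ^ 2`.
-/

set_option autoImplicit false
set_option linter.unusedSectionVars false
set_option linter.style.haveILetI false

namespace Cfsg.Agent.FG72.MaxClass

universe u

open Subgroup FG38 SectRank81
open scoped commutatorElement

/-- The terms of the series have the orders of a group of maximal class. -/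
structure MaxCl (p n : ℕ) (G : Type*) [Group G] : Prop where
  card : Nat.card G = p ^ n
  three : 3 ≤ n
  layer : ∀ i, 2 ≤ i → i ≤ n → Nat.card (filt G i) = p ^ (n - i)

variable {G : Type*} [Group G] [Finite G] {p n : ℕ} [hp : Fact p.Prime]

omit [Finite G] in
theorem map_filt_le (i : ℕ) (N : Subgroup G) [N.Normal] :
    (filt G i).map (QuotientGroup.mk' N) ≤ filt (G ⧸ N) i := by
  unfold filt
  rw [Subgroup.map_lowerCentralSeries,
    Subgroup.map_top_of_surjective _ (QuotientGroup.mk'_surjective _)]

omit [Finite G] in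
theorem map_filt_ge (i : ℕ) (N : Subgroup G) [N.Normal] :
    filt (G ⧸ N) i ≤ (filt G i).map (QuotientGroup.mk' N) := by
  unfold filt
  rw [Subgroup.map_lowerCentralSeries,
    Subgroup.map_top_of_surjective _ (QuotientGroup.mk'_surjective _)]

omit [Finite G] in
theorem mem_of_map_mem {m i : ℕ} (hmi : i ≤ m) {a : G}
    (h : QuotientGroup.mk' (filt G m) a ∈ filt (G ⧸ filt G m) i) : a ∈ filt G i := by
  obtain ⟨b, hb, e⟩ := map_filt_ge i _ h
  rw [QuotientGroup.mk'_eq_mk'] at e
  obtain ⟨z, hz, rfl⟩ := e
  exact mul_mem hb (filt_antitone hmi hz)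

omit [Finite G] in
theorem mem_twoStep' {i : ℕ} (hi : 1 ≤ i) {g : G} :
    g ∈ twoStep G (i - 1) ↔ ∀ a ∈ filt G i, ⁅g, a⁆ ∈ filt G (i + 2) := by
  rw [mem_twoStep, show i - 1 + 2 = i + 2 - 1 by omega]
  rfl

namespace MaxCl

variable (h : MaxCl p n G)
include h

theorem isPGroup : IsPGroup p G := IsPGroup.of_card h.card

theorem filt_n : filt G n = ⊥ := by
  refine Subgroup.eq_bot_of_card_eq _ ?_
  rw [h.layer n (by have := h.three; omega) le_rfl, Nat.sub_self, pow_zero]

theorem exists_not_mem_succ {i : ℕ} (hi : 2 ≤ i) (hin : i + 1 ≤ n) :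
    ∃ v ∈ filt G i, v ∉ filt G (i + 1) := by
  by_contra! hc
  have := Subgroup.card_le_of_le (show filt G i ≤ filt G (i + 1) from hc)
  rw [h.layer i hi (by omega), h.layer (i + 1) (by omega) hin] at this
  have := (Nat.pow_le_pow_iff_right hp.out.one_lt).1 this
  omega

theorem layer_gen {i : ℕ} (hi : 2 ≤ i) (hin : i + 1 ≤ n) {v : G} (hv : v ∈ filt G i)
    (hv' : v ∉ filt G (i + 1)) : filt G i ≤ zpowers v ⊔ filt G (i + 1) := by
  have hle : zpowers v ⊔ filt G (i + 1) ≤ filt G i :=
    sup_le (zpowers_le.2 hv) (filt_antitone (Nat.le_succ i))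
  refine (Subgroup.eq_of_le_of_card_ge hle ?_).ge
  obtain ⟨m, hm⟩ := PGroup.exists_card_eq_pow h.isPGroup (zpowers v ⊔ filt G (i + 1) : Subgroup G)
  have h1 : Nat.card (filt G (i + 1)) < Nat.card (zpowers v ⊔ filt G (i + 1) : Subgroup G) := by
    refine lt_of_le_of_ne (Subgroup.card_le_of_le le_sup_right) fun he => hv' ?_
    rw [Subgroup.eq_of_le_of_card_ge le_sup_right he.ge]
    exact mem_sup_left (mem_zpowers v)
  rw [hm, h.layer (i + 1) (by omega) hin] at h1
  have := (Nat.pow_lt_pow_iff_right hp.out.one_lt).1 h1
  rw [hm, h.layer i hi (by omega)]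
  exact Nat.pow_le_pow_right hp.out.pos (by omega)

theorem twoStep_ne {i : ℕ} (hi : 2 ≤ i) (hin : i + 2 ≤ n) : twoStep G (i - 1) ≠ ⊤ := by
  refine twoStep_ne_top fun hle => ?_
  obtain ⟨v, hv, hv'⟩ := h.exists_not_mem_succ (i := i + 1) (by omega) (by omega)
  refine hv' ?_
  show v ∈ (⊤ : Subgroup G).lowerCentralSeries (i + 1 + 1 - 1)
  rw [show i + 1 + 1 - 1 = i - 1 + 2 by omega]
  refine hle ?_
  rw [show i - 1 + 1 = i + 1 - 1 by omega]
  exact hv

theorem quotient {m : ℕ} (hm : 3 ≤ m) (hmn : m ≤ n) : MaxCl p m (G ⧸ filt G m) := by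
  have hpos : 0 < p ^ (n - m) := pow_pos hp.out.pos _
  have hc := h.layer m (by omega) hmn
  refine ⟨?_, hm, fun i hi him => ?_⟩
  · have h1 := card_eq_card_quotient_mul_card_subgroup (filt G m)
    rw [h.card, hc, show n = m + (n - m) by omega, pow_add, show m + (n - m) - m = n - m by omega] at h1
    exact (Nat.eq_of_mul_eq_mul_right hpos h1).symm
  · have e : filt (G ⧸ filt G m) i = (filt G i).map (QuotientGroup.mk' (filt G m)) :=
      le_antisymm (map_filt_ge i _) (map_filt_le i _)
    have h1 := FG78.card_comap_mk' (filt G m) (filt (G ⧸ filt G m) i)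
    rw [e, Subgroup.comap_map_eq, QuotientGroup.ker_mk', sup_eq_left.2 (filt_antitone him),
      h.layer i hi (by omega), hc, show n - i = (n - m) + (m - i) by omega, pow_add] at h1
    rw [e]
    exact (Nat.eq_of_mul_eq_mul_left hpos h1).symm

/-- An element outside `γ₂` and all two-step centralisers has centraliser of order `p ^ 2`. -/
theorem cfg_of_outside {g : G} (hg2 : g ∉ filt G 2)
    (hg : ∀ i, 2 ≤ i → i + 2 ≤ n → g ∉ twoStep G (i - 1)) : Cfg p n g := by
  have h3 := h.three
  refine ⟨h.card, h3, ?_⟩
  set C := centralizer ({g} : Set G) with hC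
  have hgC : g ∈ C := mem_centralizer_singleton_iff.2 rfl
  have hZle : filt G (n - 1) ≤ center G := fun z hz => mem_center_iff.2 fun u => by
    symm
    rw [← commutatorElement_eq_one_iff_mul_comm]
    have h1 : ⁅z, u⁆ ∈ filt G (n - 1 + 1) :=
      filt_commutator (n - 1) 1 (commutator_mem_commutator hz (by trivial))
    rwa [show n - 1 + 1 = n by omega, h.filt_n, mem_bot] at h1
  have hC2 : C ⊓ filt G 2 ≤ filt G (n - 1) := by
    intro v hv
    rw [mem_inf] at hv
    have key : ∀ i, 2 ≤ i → i ≤ n - 1 → v ∈ filt G i := by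
      intro i hi
      induction i, hi using Nat.le_induction with
      | base => exact fun _ => hv.2
      | succ i hi ih =>
        intro hin
        by_contra hv'
        refine hg i hi (by omega) ((mem_twoStep' (by omega)).2 fun w hw => ?_)
        obtain ⟨w₁, hw₁, w₂, hw₂, rfl⟩ :=
          mem_sup_of_normal_right.1 (h.layer_gen hi (by omega) (ih (by omega)) hv' hw)
        obtain ⟨s, rfl⟩ := mem_zpowers_iff.1 hw₁
        set π := QuotientGroup.mk' (filt G (i + 2))
        refine (QuotientGroup.eq_one_iff _).1 ?_
        show π ⁅g, v ^ s * w₂⁆ = 1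
        rw [map_commutatorElement, commutatorElement_eq_one_iff_mul_comm, map_mul, map_zpow]
        refine (Commute.mul_right (Commute.zpow_right ?_ s) ?_).eq
        · exact (show Commute g v from (mem_centralizer_singleton_iff.1 hv.1).symm).map π
        · show _ = _
          rw [← commutatorElement_eq_one_iff_mul_comm, ← map_commutatorElement]
          refine (QuotientGroup.eq_one_iff _).2 ?_
          rw [← commutatorElement_inv]
          exact inv_mem (filt_commutator (i + 1) 1 (commutator_mem_commutator hw₂ (by trivial)))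
    exact key (n - 1) (by omega) le_rfl
  obtain ⟨m, hm⟩ := PGroup.exists_card_eq_pow h.isPGroup C
  have hn1 := h.layer (n - 1) (by omega) (by omega)
  rw [show n - (n - 1) = 1 by omega, pow_one] at hn1
  have hlow : p < Nat.card C := by
    rw [← hn1]
    have hle : filt G (n - 1) ≤ C := hZle.trans (center_le_centralizer _)
    refine lt_of_le_of_ne (Subgroup.card_le_of_le hle) fun he => hg2 ?_
    exact filt_antitone (by omega) (Subgroup.eq_of_le_of_card_ge hle he.ge ▸ hgC)
  have hup : Nat.card C ≤ p * p := by
    rw [card_eq_relIndex_mul (filt G 2) C]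
    refine Nat.mul_le_mul ?_ (hn1 ▸ Subgroup.card_le_of_le hC2)
    have h1 := card_eq_relIndex_mul (filt G 2) (C ⊔ filt G 2)
    rw [inf_eq_right.2 le_sup_right, relIndex_sup_right, h.layer 2 le_rfl (by omega)] at h1
    obtain ⟨t, ht⟩ := PGroup.exists_card_eq_pow h.isPGroup (C ⊔ filt G 2 : Subgroup G)
    have hlt : p ^ t < p ^ n := by
      rw [← ht, ← h.card]
      refine lt_of_le_of_ne (Subgroup.card_le_card_group _) fun he => ?_
      have htop := Subgroup.eq_top_of_card_eq _ he
      have hCtop : C = ⊤ := by
        refine frattini_nongenerating (top_le_iff.1 ?_)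
        rw [← htop]
        exact sup_le_sup_left (filt_two (G := G) ▸ PGroup.commutator_le_frattini h.isPGroup) _
      obtain ⟨v, hv, hv'⟩ := h.exists_not_mem_succ (i := 2) le_rfl (by omega)
      rw [hCtop, top_inf_eq] at hC2
      have h2 := Subgroup.card_le_of_le hC2
      rw [h.layer 2 le_rfl (by omega), hn1, ← pow_one p, ← pow_mul, one_mul] at h2
      have := (Nat.pow_le_pow_iff_right hp.out.one_lt).1 h2
      have hn3 : n = 3 := by omega
      subst hn3
      refine hg2 ?_
      have hgc : g ∈ center G := mem_center_iff.2 fun u =>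
        mem_centralizer_singleton_iff.1 (show u ∈ C by rw [hCtop]; exact mem_top u)
      have hcz : ∀ u : G, ⁅g, u⁆ = 1 := fun u =>
        commutatorElement_eq_one_iff_mul_comm.2 (mem_center_iff.1 hgc u).symm
      by_contra hgn
      -- `g` is central and outside `γ₂`, so `G = ⟨g⟩ Z` would be abelian after adjoining one element
      obtain ⟨w, hw⟩ : ∃ w : G, w ∉ center G := by
        by_contra! hall
        refine hv' ?_
        have hbot : filt G 2 = ⊥ := by
          rw [filt_two, _root_.commutator_def, eq_bot_iff, commutator_le]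
          intro a _ b _
          rw [mem_bot, commutatorElement_eq_one_iff_mul_comm]
          exact (mem_center_iff.1 (hall b) a)
        rw [hbot, mem_bot] at hv
        rw [hv]; exact one_mem _
      obtain ⟨z, hz⟩ := PGroup.exists_card_eq_pow h.isPGroup (center G)
      have hzlt : Nat.card (center G) < p ^ 3 := by
        rw [← h.card]
        exact lt_of_le_of_ne (Subgroup.card_le_card_group _) fun he2 =>
          hw (Subgroup.eq_top_of_card_eq _ he2 ▸ mem_top w)
      have hzgt : p < Nat.card (center G) := by
        rw [← hn1]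
        refine lt_of_le_of_ne (Subgroup.card_le_of_le hZle) fun he2 => hgn ?_
        exact Subgroup.eq_of_le_of_card_ge hZle he2.ge ▸ hgc
      rw [hz] at hzlt hzgt
      have h4 := (Nat.pow_lt_pow_iff_right hp.out.one_lt).1 hzlt
      have h5 : 1 < z := (Nat.pow_lt_pow_iff_right hp.out.one_lt).1 (by rwa [pow_one])
      obtain rfl : z = 2 := by omega
      haveI : IsCyclic (G ⧸ center G) := isCyclic_of_prime_card (p := p) (by
        have h6 := card_eq_card_quotient_mul_card_subgroup (center G)
        rw [h.card, hz, pow_succ, mul_comm] at h6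
        exact (Nat.eq_of_mul_eq_mul_right (pow_pos hp.out.pos 2) h6).symm)
      exact hw (mem_center_iff.2 fun u =>
        (MonoidHom.isMulCommutative_of_isCyclic_of_ker_le_center (QuotientGroup.mk' (center G))
          (by rw [QuotientGroup.ker_mk'])).is_comm.comm u w)
    have hts := (Nat.pow_lt_pow_iff_right hp.out.one_lt).1 hlt
    refine Nat.le_of_mul_le_mul_right ?_ (pow_pos hp.out.pos (n - 2))
    rw [← h1, ht, ← pow_succ']
    exact Nat.pow_le_pow_right hp.out.pos (by omega)
  rw [hm] at hlow hup ⊢
  rw [← sq] at hup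
  have h4 := (Nat.pow_le_pow_iff_right hp.out.one_lt).1 hup
  have h5 : 1 < m := (Nat.pow_lt_pow_iff_right hp.out.one_lt).1 (by rwa [pow_one])
  congr 1
  omega

end MaxCl

theorem twoStep_top_of_cfg {x : G} (h : Cfg p n x) : MaxCl p n G := ⟨h.card, h.three, h.card_filt⟩

/-- Moving along by `p - 1` keeps an element outside the two-step centraliser (top layer). -/
theorem not_twoStep_last {x : G} (h : Cfg p n x) {j : ℕ} (hj : 2 ≤ j) (hjn : j + p + 1 = n) {g : G}
    (hg : g ∉ twoStep G (j - 1)) : g ∉ twoStep G (j + (p - 1) - 1) := by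
  have hp2 := hp.out.two_le
  intro hg'
  rw [mem_twoStep' (by omega)] at hg hg'
  simp only [not_forall] at hg
  obtain ⟨a, ha, hu2⟩ := hg
  set u := ⁅g, a⁆ with hudef
  have hu : u ∈ filt G (j + 1) := by
    rw [hudef, ← commutatorElement_inv]
    exact inv_mem (filt_commutator j 1 (commutator_mem_commutator ha (by trivial)))
  have hap : a ^ p ∈ filt G (j + (p - 1)) :=
    h.pow_p_mem (n - j) j (by omega) hj a ha _ (by omega) (by omega)
  have h1 := hg' _ hap
  rw [show j + (p - 1) + 2 = n by omega, h.filt_n, mem_bot] at h1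
  set W : Subgroup G := zpowers a ⊔ filt G (j + 1) with hW
  have hWj : W ≤ filt G j := sup_le (zpowers_le.2 ha) (filt_antitone (Nat.le_succ j))
  have hlcs : ∀ k, 1 ≤ k → W.lowerCentralSeries k ≤ filt G (j + 1 + j * k) := by
    intro k hk
    induction k, hk using Nat.le_induction with
    | base =>
      rw [Subgroup.lowerCentralSeries_succ, Subgroup.lowerCentralSeries_zero, commutator_le, mul_one]
      intro s hs t ht
      obtain ⟨s₁, hs₁, s₂, hs₂, rfl⟩ := mem_sup_of_normal_right.1 hs
      obtain ⟨t₁, ht₁, t₂, ht₂, rfl⟩ := mem_sup_of_normal_right.1 ht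
      obtain ⟨e, rfl⟩ := mem_zpowers_iff.1 hs₁
      obtain ⟨f, rfl⟩ := mem_zpowers_iff.1 ht₁
      refine (QuotientGroup.eq_one_iff _).1 ?_
      show QuotientGroup.mk' (filt G (j + 1 + j)) ⁅a ^ e * s₂, a ^ f * t₂⁆ = 1
      rw [map_commutatorElement, commutatorElement_eq_one_iff_mul_comm, map_mul, map_mul]
      have hcen : ∀ w ∈ filt G (j + 1), ∀ v ∈ filt G j,
          Commute (QuotientGroup.mk' (filt G (j + 1 + j)) w) (QuotientGroup.mk' (filt G (j + 1 + j)) v) := by
        intro w hw v hv
        show _ = _
        rw [← commutatorElement_eq_one_iff_mul_comm, ← map_commutatorElement]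
        exact (QuotientGroup.eq_one_iff _).2 (filt_commutator (j + 1) j (commutator_mem_commutator hw hv))
      refine (Commute.mul_left (Commute.mul_right ?_ (hcen t₂ ht₂ _ (zpow_mem ha e)).symm) ?_).eq
      · exact (Commute.zpow_zpow_self a e f).map _
      · rw [← map_mul]
        exact hcen s₂ hs₂ _ (hWj ht)
    | succ k hk ih =>
      rw [Subgroup.lowerCentralSeries_succ]
      refine (commutator_mono ih hWj).trans ((filt_commutator _ _).trans (filt_antitone ?_))
      rw [Nat.mul_succ]; omega
  have htop : ∀ k, 1 ≤ k → ∀ z ∈ (⊤ : Subgroup W).lowerCentralSeries k,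
      (z : G) ∈ filt G (j + 1 + j * k) := by
    intro k hk z hz
    have h2 := mem_map_of_mem W.subtype hz
    rw [top_subtype_lowerCentralSeries] at h2
    exact hlcs k hk h2
  have hcl : (⊤ : Subgroup W).lowerCentralSeries (p - 1) = ⊥ := by
    rw [eq_bot_iff]
    intro z hz
    have h2 : 2 * (p - 1) ≤ j * (p - 1) := Nat.mul_le_mul_right _ hj
    have h3 := filt_antitone (show n ≤ j + 1 + j * (p - 1) by omega) (htop (p - 1) (by omega) z hz)
    rw [h.filt_n, mem_bot] at h3
    exact mem_bot.2 (Subtype.ext h3)
  have hexp : ∀ z ∈ _root_.commutator W, z ^ p = 1 := by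
    intro z hz
    rw [← top_lowerCentralSeries_one] at hz
    apply Subtype.ext
    rw [SubmonoidClass.coe_pow, Subgroup.coe_one]
    exact h.pow_p_eq_one (n - (j + 2)) (j + 2) (by omega) (by omega) (by omega) _
      (filt_antitone (by omega) (htop 1 le_rfl z hz))
  have h2 := congrArg Subtype.val (mul_pow_prime hp.out hcl hexp
    ⟨u, mem_sup_right hu⟩ ⟨a, mem_sup_left (mem_zpowers a)⟩)
  simp only [SubmonoidClass.coe_pow, Subgroup.coe_mul] at h2
  have e : u * a = g * a * g⁻¹ := by rw [hudef, commutatorElement_def]; group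
  rw [e, _root_.conj_pow] at h2
  have h3 : u ^ p = ⁅g, a ^ p⁆ := by
    rw [commutatorElement_def, h2, mul_inv_cancel_right]
  refine h.pow_p_not_mem (i := j + 1) (by omega) (by omega) hu hu2 ?_
  rw [h3, h1]
  exact one_mem _

/-- Outside the first `p - 1` two-step centralisers is outside all of them, and such elements exist. -/
theorem periodic : ∀ (n : ℕ) {G : Type u} [Group G] [Finite G], MaxCl p n G →
    ∀ j, 2 ≤ j → j + p + 1 ≤ n → ∀ g : G, g ∉ twoStep G (j - 1) → g ∉ twoStep G (j + (p - 1) - 1) := by
  intro n
  induction n using Nat.strong_induction_on with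
  | _ n ih =>
    intro G _ _ h j hj hjn g hg
    have hp2 := hp.out.two_le
    rcases Nat.eq_or_lt_of_le hjn with heq | hlt
    · -- choose an element outside all two-step centralisers
      obtain ⟨x, hx⟩ := exists_not_mem h.isPGroup (insert (n - 2) (Finset.Icc 2 p))
        ((Finset.card_insert_le _ _).trans (by rw [Nat.card_Icc]; omega)) (fun i => twoStep G (i - 1))
        (fun i hi => by
          rcases Finset.mem_insert.1 hi with rfl | hi
          · exact h.twoStep_ne (by omega) (by omega)
          · have := Finset.mem_Icc.1 hi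
            exact h.twoStep_ne (by omega) (by omega))
      have hall : ∀ i, 2 ≤ i → i + 2 ≤ n → x ∉ twoStep G (i - 1) := by
        intro i
        induction i using Nat.strong_induction_on with
        | _ i ihi =>
          intro hi hin
          by_cases hip : i ≤ p
          · exact hx i (Finset.mem_insert_of_mem (Finset.mem_Icc.2 ⟨hi, hip⟩))
          by_cases hlast : i + 2 = n
          · have h1 := hx (n - 2) (Finset.mem_insert_self _ _)
            rwa [show n - 2 - 1 = i - 1 by omega] at h1
          have hprev := ihi (i - (p - 1)) (by omega) (by omega) (by omega)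
          have hQ := h.quotient (m := n - 1) (by omega) (by omega)
          intro hxi
          rw [mem_twoStep' (by omega)] at hxi
          refine ih (n - 1) (by omega) hQ (i - (p - 1)) (by omega) (by omega)
            (QuotientGroup.mk' _ x) ?_ ?_
          · rw [mem_twoStep' (by omega)]
            intro hh
            refine hprev ((mem_twoStep' (by omega)).2 fun a ha => ?_)
            have h1 := hh (QuotientGroup.mk' _ a) (map_filt_le _ _ (mem_map_of_mem _ ha))
            rw [← map_commutatorElement] at h1
            exact mem_of_map_mem (by omega) h1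
          · rw [show i - (p - 1) + (p - 1) = i by omega, mem_twoStep' (by omega)]
            intro b hb
            obtain ⟨a, ha, rfl⟩ := map_filt_ge _ _ hb
            rw [← map_commutatorElement]
            exact map_filt_le _ _ (mem_map_of_mem _ (hxi a ha))
      have hx2 : x ∉ filt G 2 := fun hx2 => hall 2 le_rfl (by omega) ((mem_twoStep' (by omega)).2
        fun a ha => filt_antitone (by omega : 2 + 2 ≤ 2 + 2) (filt_commutator 2 2
          (commutator_mem_commutator hx2 ha)))
      exact not_twoStep_last (h.cfg_of_outside hx2 hall) hj heq hg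
    · have hQ := h.quotient (m := n - 1) (by omega) (by omega)
      intro hgi
      rw [mem_twoStep' (by omega)] at hgi
      refine ih (n - 1) (by omega) hQ j hj (by omega) (QuotientGroup.mk' _ g) ?_ ?_
      · rw [mem_twoStep' (by omega)]
        intro hh
        refine hg ((mem_twoStep' (by omega)).2 fun a ha => ?_)
        have h1 := hh (QuotientGroup.mk' _ a) (map_filt_le _ _ (mem_map_of_mem _ ha))
        rw [← map_commutatorElement] at h1
        exact mem_of_map_mem (by omega) h1
      · rw [mem_twoStep' (by omega)]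
        intro b hb
        obtain ⟨a, ha, rfl⟩ := map_filt_ge _ _ hb
        rw [← map_commutatorElement]
        exact map_filt_le _ _ (mem_map_of_mem _ (hgi a ha))

/-- An element outside the first two-step centralisers has centraliser of order `p ^ 2`. -/
theorem MaxCl.cfg_of_outside_first (h : MaxCl p n G) {g : G} (hg2 : g ∉ filt G 2)
    (hg : ∀ i, 2 ≤ i → i ≤ p → i + 2 ≤ n → g ∉ twoStep G (i - 1)) : Cfg p n g := by
  refine h.cfg_of_outside hg2 fun i => ?_
  induction i using Nat.strong_induction_on with
  | _ i ihi =>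
    intro hi hin
    by_cases hip : i ≤ p
    · exact hg i hi hip hin
    have hp2 := hp.out.two_le
    have h1 := periodic n h (i - (p - 1)) (by omega) (by omega) g (ihi (i - (p - 1)) (by omega) (by omega) (by omega))
    rwa [show i - (p - 1) + (p - 1) = i by omega] at h1

/-- A group of maximal class has an element with centraliser of order `p ^ 2`. -/
theorem MaxCl.exists_cfg (h : MaxCl p n G) : ∃ x : G, Cfg p n x := by
  classical
  have h3 := h.three
  have hp2 := hp.out.two_le
  let C : ℕ → Subgroup G := fun i => if i = 1 then filt G 2 else twoStep G (i - 1)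
  obtain ⟨x, hx⟩ := exists_not_mem h.isPGroup (Finset.Icc 1 (min p (n - 2)))
    (by rw [Nat.card_Icc]; omega) C (fun i hi => by
      have := Finset.mem_Icc.1 hi
      by_cases h1 : i = 1
      · simp only [C, h1, if_true]
        intro he
        have := h.layer 2 le_rfl (by omega)
        rw [he, card_top, h.card] at this
        have := Nat.pow_right_injective hp.out.two_le this
        omega
      · simp only [C, h1, if_false]
        exact h.twoStep_ne (by omega) (by omega))
  refine ⟨x, h.cfg_of_outside_first ?_ fun i hi hip hin => ?_⟩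
  · have := hx 1 (Finset.mem_Icc.2 ⟨le_rfl, by omega⟩)
    simpa [C] using this
  · have := hx i (Finset.mem_Icc.2 ⟨by omega, by omega⟩)
    simpa [C, show i ≠ 1 by omega] using this

end Cfsg.Agent.FG72.MaxClass
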